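import Cfsg.Agent.Spor.ThG.D0

set_option autoImplicit false
set_option maxRecDepth 100000000
set_option Elab.async false

namespace Cfsg.Agent.Spor.ThG

theorem ok0 : Net.okb 13 n0 = true := by decide +kernel

theorem ok1 : Net.okb 13 n1 = true := by decide +kernel

theorem ok2 : Net.okb 13 n2 = true := by decide +kernel

theorem ok3 : Net.okb 13 n3 = true := by decide +kernel

theorem ok4 : Net.okb 13 n4 = true := by decide +kernel

theorem ok5 : Net.okb 13 n5 = true := by decide +kernel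

theorem ok6 : Net.okb 13 n6 = true := by decide +kernel

theorem ok7 : Net.okb 13 n7 = true := by decide +kernel

theorem rel0 : T.rel 13 [1, 1] 0 13 = true := by decide +kernel

theorem rel1 : T.rel 13 [2, 2] 0 13 = true := by decide +kernel

theorem rel2 : T.rel 13 [3, 3] 0 13 = true := by decide +kernel

theorem rel3 : T.rel 13 [4, 4] 0 13 = true := by decide +kernel

theorem rel4 : T.rel 13 [5, 5] 0 13 = true := by decide +kernel

theorem rel5 : T.rel 13 [8, 2, 3, 1, 2] 0 13 = true := by decide +kernel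

theorem rel6 : T.rel 13 [10, 4, 7, 4] 0 13 = true := by decide +kernel

theorem rel7 : T.rel 13 [2, 1, 2, 1, 2, 1] 0 13 = true := by decide +kernel

theorem rel8 : T.rel 13 [5, 1, 5, 1] 0 13 = true := by decide +kernel

theorem rel9 : T.rel 13 [3, 2, 3, 2, 3, 2] 0 13 = true := by decide +kernel

theorem rel10 : T.rel 13 [4, 2, 4, 2] 0 13 = true := by decide +kernel

theorem rel11 : T.rel 13 [5, 2, 5, 2] 0 13 = true := by decide +kernel

theorem rel12 : T.rel 13 [3, 4, 3, 4, 3, 4, 3, 4, 1] 0 13 = true := by decide +kernel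

theorem rel13 : T.rel 13 [5, 3, 5, 3] 0 13 = true := by decide +kernel

theorem rel14 : T.rel 13 [5, 4, 5, 4, 5, 4] 0 13 = true := by decide +kernel

theorem rel15 : T.rel 13 [1, 3, 6, 6] 0 13 = true := by decide +kernel

theorem rel16 : T.rel 13 [1, 6, 1, 7] 0 13 = true := by decide +kernel

theorem rel17 : T.rel 13 [3, 6, 3, 7] 0 13 = true := by decide +kernel

theorem rel18 : T.rel 13 [5, 6, 5, 7] 0 13 = true := by decide +kernel

theorem rel19 : T.rel 13 [6, 4, 7, 5, 4, 6, 4, 7, 5, 4] 0 13 = true := by decide +kernel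

theorem rel20 : T.rel 13 [5, 8, 6, 8, 7] 0 13 = true := by decide +kernel

theorem rel21 : T.rel 13 [7, 5, 8, 11, 5, 3, 8, 10, 8, 11] 0 13 = true := by decide +kernel

theorem rel22 : T.rel 13 [3, 1, 3, 1] 0 13 = true := by decide +kernel

theorem rel23 : T.rel 13 [4, 1, 4, 1] 0 13 = true := by decide +kernel

theorem rel24 : T.rel 13 [8, 8] 0 13 = true := by decide +kernel

theorem rel25 : T.rel 13 [5, 4, 3, 2, 5, 4, 3, 2, 5, 4, 3, 2, 5, 4, 3, 2, 5, 4, 3, 2, 5, 4, 3, 2, 5, 4, 3, 2, 5, 4, 3, 2] 0 13 = true := by decide +kernel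

theorem hcov : T.treeCov (ones 7371) L 1 = true := by decide +kernel

theorem hg : lall (fun z => band (memL L z) (band (sub (ones 7371) (T.let z).cl) (T.closed (ones 7371) z))) gs = true := by decide +kernel

theorem rot1_1 : T.rot 1 [1] (sel (ones 7371) ip1 1) = true := by decide +kernel

theorem rot1_1r : band (Rule.ok (2 * 5) EX RL ⟨1 :: [1], [], 18, false⟩) (lall (memL L) [1]) = true := by decide +kernel

theorem rot1_2 : T.rot 1 [5, 1, 5] (sel (ones 7371) ip1 2) = true := by decide +kernel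

theorem rot1_2r : band (Rule.ok (2 * 5) EX RL ⟨1 :: [5, 1, 5], [], 1, false⟩) (lall (memL L) [5, 1, 5]) = true := by decide +kernel

theorem rot1_3 : T.rot 1 [3, 6, 6] (sel (ones 7371) ip1 3) = true := by decide +kernel

theorem rot1_3r : band (Rule.ok (2 * 5) EX RL ⟨1 :: [3, 6, 6], [], 8, true⟩) (lall (memL L) [3, 6, 6]) = true := by decide +kernel

theorem rot1_4 : T.rot 1 [7, 7, 3] (sel (ones 7371) ip1 4) = true := by decide +kernel

theorem rot1_4r : band (Rule.ok (2 * 5) EX RL ⟨1 :: [7, 7, 3], [0], 8, false⟩) (lall (memL L) [7, 7, 3]) = true := by decide +kernel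

theorem rot1_5 : T.rot 1 [6, 1, 7] (sel (ones 7371) ip1 5) = true := by decide +kernel

theorem rot1_5r : band (Rule.ok (2 * 5) EX RL ⟨1 :: [6, 1, 7], [], 9, true⟩) (lall (memL L) [6, 1, 7]) = true := by decide +kernel

theorem rot1_6 : T.rot 1 [7, 1, 6] (sel (ones 7371) ip1 6) = true := by decide +kernel

theorem rot1_6r : band (Rule.ok (2 * 5) EX RL ⟨1 :: [7, 1, 6], [11], 9, false⟩) (lall (memL L) [7, 1, 6]) = true := by decide +kernel

theorem rot1_7 : T.rot 1 [3, 1, 3] (sel (ones 7371) ip1 7) = true := by decide +kernel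

theorem rot1_7r : band (Rule.ok (2 * 5) EX RL ⟨1 :: [3, 1, 3], [], 15, false⟩) (lall (memL L) [3, 1, 3]) = true := by decide +kernel

theorem rot1_8 : T.rot 1 [4, 1, 4] (sel (ones 7371) ip1 8) = true := by decide +kernel

theorem rot1_8r : band (Rule.ok (2 * 5) EX RL ⟨1 :: [4, 1, 4], [], 16, false⟩) (lall (memL L) [4, 1, 4]) = true := by decide +kernel

theorem rot1_9 : T.rot 1 [3, 2, 9, 2] (sel (ones 7371) ip1 9) = true := by decide +kernel

theorem rot1_9r : band (Rule.ok (2 * 5) EX RL ⟨1 :: [3, 2, 9, 2], [], 18, false⟩) (lall (memL L) [3, 2, 9, 2]) = true := by decide +kernel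

theorem rot1_10 : T.rot 1 [2, 8, 2, 3] (sel (ones 7371) ip1 10) = true := by decide +kernel

theorem rot1_10r : band (Rule.ok (2 * 5) EX RL ⟨1 :: [2, 8, 2, 3], [], 18, false⟩) (lall (memL L) [2, 8, 2, 3]) = true := by decide +kernel

theorem rot1_11 : T.rot 1 [2, 1, 2, 1, 2] (sel (ones 7371) ip1 11) = true := by decide +kernel

theorem rot1_11r : band (Rule.ok (2 * 5) EX RL ⟨1 :: [2, 1, 2, 1, 2], [], 0, false⟩) (lall (memL L) [2, 1, 2, 1, 2]) = true := by decide +kernel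

theorem rot1_12 : T.rot 1 [3, 4, 3, 4, 3, 4, 3, 4] (sel (ones 7371) ip1 12) = true := by decide +kernel

theorem rot1_12r : band (Rule.ok (2 * 5) EX RL ⟨1 :: [3, 4, 3, 4, 3, 4, 3, 4], [0], 5, true⟩) (lall (memL L) [3, 4, 3, 4, 3, 4, 3, 4]) = true := by decide +kernel

theorem rot1_13 : T.rot 1 [4, 3, 4, 3, 4, 3, 4, 3] (sel (ones 7371) ip1 13) = true := by decide +kernel

theorem rot1_13r : band (Rule.ok (2 * 5) EX RL ⟨1 :: [4, 3, 4, 3, 4, 3, 4, 3], [], 5, false⟩) (lall (memL L) [4, 3, 4, 3, 4, 3, 4, 3]) = true := by decide +kernel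

theorem cov1 : T.cover 1 [(sel (ones 7371) ip1 1), (sel (ones 7371) ip1 2), (sel (ones 7371) ip1 3), (sel (ones 7371) ip1 4), (sel (ones 7371) ip1 5), (sel (ones 7371) ip1 6), (sel (ones 7371) ip1 7), (sel (ones 7371) ip1 8), (sel (ones 7371) ip1 9), (sel (ones 7371) ip1 10), (sel (ones 7371) ip1 11), (sel (ones 7371) ip1 12), (sel (ones 7371) ip1 13), 1] = true := by decide +kernel

theorem tl1 : T.treeLt 13 1 = true := by decide +kernel

theorem rot2_1 : T.rot 2 [2] (sel (ones 7371) ip2 1) = true := by decide +kernel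

theorem rot2_1r : band (Rule.ok (2 * 5) EX RL ⟨2 :: [2], [], 18, false⟩) (lall (memL L) [2]) = true := by decide +kernel

theorem rot2_2 : T.rot 2 [4, 2, 4] (sel (ones 7371) ip2 2) = true := by decide +kernel

theorem rot2_2r : band (Rule.ok (2 * 5) EX RL ⟨2 :: [4, 2, 4], [], 3, false⟩) (lall (memL L) [4, 2, 4]) = true := by decide +kernel

theorem rot2_3 : T.rot 2 [5, 2, 5] (sel (ones 7371) ip2 3) = true := by decide +kernel

theorem rot2_3r : band (Rule.ok (2 * 5) EX RL ⟨2 :: [5, 2, 5], [], 4, false⟩) (lall (memL L) [5, 2, 5]) = true := by decide +kernel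

theorem rot2_4 : T.rot 2 [1, 3, 2, 9] (sel (ones 7371) ip2 4) = true := by decide +kernel

theorem rot2_4r : band (Rule.ok (2 * 5) EX RL ⟨2 :: [1, 3, 2, 9], [], 18, false⟩) (lall (memL L) [1, 3, 2, 9]) = true := by decide +kernel

theorem rot2_5 : T.rot 2 [9, 2, 1, 3] (sel (ones 7371) ip2 5) = true := by decide +kernel

theorem rot2_5r : band (Rule.ok (2 * 5) EX RL ⟨2 :: [9, 2, 1, 3], [], 18, false⟩) (lall (memL L) [9, 2, 1, 3]) = true := by decide +kernel

theorem rot2_6 : T.rot 2 [3, 1, 2, 8] (sel (ones 7371) ip2 6) = true := by decide +kernel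

theorem rot2_6r : band (Rule.ok (2 * 5) EX RL ⟨2 :: [3, 1, 2, 8], [], 18, false⟩) (lall (memL L) [3, 1, 2, 8]) = true := by decide +kernel

theorem rot2_7 : T.rot 2 [8, 2, 3, 1] (sel (ones 7371) ip2 7) = true := by decide +kernel

theorem rot2_7r : band (Rule.ok (2 * 5) EX RL ⟨2 :: [8, 2, 3, 1], [], 18, false⟩) (lall (memL L) [8, 2, 3, 1]) = true := by decide +kernel

theorem rot2_8 : T.rot 2 [1, 2, 1, 2, 1] (sel (ones 7371) ip2 8) = true := by decide +kernel

theorem rot2_8r : band (Rule.ok (2 * 5) EX RL ⟨2 :: [1, 2, 1, 2, 1], [], 0, true⟩) (lall (memL L) [1, 2, 1, 2, 1]) = true := by decide +kernel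

theorem rot2_9 : T.rot 2 [3, 2, 3, 2, 3] (sel (ones 7371) ip2 9) = true := by decide +kernel

theorem rot2_9r : band (Rule.ok (2 * 5) EX RL ⟨2 :: [3, 2, 3, 2, 3], [], 2, false⟩) (lall (memL L) [3, 2, 3, 2, 3]) = true := by decide +kernel

theorem cov2 : T.cover 2 [(sel (ones 7371) ip2 1), (sel (ones 7371) ip2 2), (sel (ones 7371) ip2 3), (sel (ones 7371) ip2 4), (sel (ones 7371) ip2 5), (sel (ones 7371) ip2 6), (sel (ones 7371) ip2 7), (sel (ones 7371) ip2 8), (sel (ones 7371) ip2 9)] = true := by decide +kernel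

theorem tl2 : T.treeLt 13 2 = true := by decide +kernel

theorem rot3_1 : T.rot 3 [3] (sel (ones 7371) ip3 1) = true := by decide +kernel

theorem rot3_1r : band (Rule.ok (2 * 5) EX RL ⟨3 :: [3], [], 18, false⟩) (lall (memL L) [3]) = true := by decide +kernel

theorem rot3_2 : T.rot 3 [5, 3, 5] (sel (ones 7371) ip3 2) = true := by decide +kernel

theorem rot3_2r : band (Rule.ok (2 * 5) EX RL ⟨3 :: [5, 3, 5], [], 6, false⟩) (lall (memL L) [5, 3, 5]) = true := by decide +kernel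

theorem rot3_3 : T.rot 3 [6, 6, 1] (sel (ones 7371) ip3 3) = true := by decide +kernel

theorem rot3_3r : band (Rule.ok (2 * 5) EX RL ⟨3 :: [6, 6, 1], [0], 8, true⟩) (lall (memL L) [6, 6, 1]) = true := by decide +kernel

theorem rot3_4 : T.rot 3 [1, 7, 7] (sel (ones 7371) ip3 4) = true := by decide +kernel

theorem rot3_4r : band (Rule.ok (2 * 5) EX RL ⟨3 :: [1, 7, 7], [0, 4], 8, false⟩) (lall (memL L) [1, 7, 7]) = true := by decide +kernel

theorem rot3_5 : T.rot 3 [6, 3, 7] (sel (ones 7371) ip3 5) = true := by decide +kernel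

theorem rot3_5r : band (Rule.ok (2 * 5) EX RL ⟨3 :: [6, 3, 7], [], 10, true⟩) (lall (memL L) [6, 3, 7]) = true := by decide +kernel

theorem rot3_6 : T.rot 3 [7, 3, 6] (sel (ones 7371) ip3 6) = true := by decide +kernel

theorem rot3_6r : band (Rule.ok (2 * 5) EX RL ⟨3 :: [7, 3, 6], [11], 10, false⟩) (lall (memL L) [7, 3, 6]) = true := by decide +kernel

theorem rot3_7 : T.rot 3 [1, 3, 1] (sel (ones 7371) ip3 7) = true := by decide +kernel

theorem rot3_7r : band (Rule.ok (2 * 5) EX RL ⟨3 :: [1, 3, 1], [], 15, true⟩) (lall (memL L) [1, 3, 1]) = true := by decide +kernel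

theorem rot3_8 : T.rot 3 [2, 9, 2, 1] (sel (ones 7371) ip3 8) = true := by decide +kernel

theorem rot3_8r : band (Rule.ok (2 * 5) EX RL ⟨3 :: [2, 9, 2, 1], [], 18, false⟩) (lall (memL L) [2, 9, 2, 1]) = true := by decide +kernel

theorem rot3_9 : T.rot 3 [1, 2, 8, 2] (sel (ones 7371) ip3 9) = true := by decide +kernel

theorem rot3_9r : band (Rule.ok (2 * 5) EX RL ⟨3 :: [1, 2, 8, 2], [], 18, false⟩) (lall (memL L) [1, 2, 8, 2]) = true := by decide +kernel

theorem rot3_10 : T.rot 3 [2, 3, 2, 3, 2] (sel (ones 7371) ip3 10) = true := by decide +kernel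

theorem rot3_10r : band (Rule.ok (2 * 5) EX RL ⟨3 :: [2, 3, 2, 3, 2], [], 2, true⟩) (lall (memL L) [2, 3, 2, 3, 2]) = true := by decide +kernel

theorem rot3_11 : T.rot 3 [4, 3, 4, 3, 4, 3, 4, 1] (sel (ones 7371) ip3 11) = true := by decide +kernel

theorem rot3_11r : band (Rule.ok (2 * 5) EX RL ⟨3 :: [4, 3, 4, 3, 4, 3, 4, 1], [], 5, true⟩) (lall (memL L) [4, 3, 4, 3, 4, 3, 4, 1]) = true := by decide +kernel

theorem rot3_12 : T.rot 3 [4, 3, 4, 3, 4, 1, 3, 4] (sel (ones 7371) ip3 12) = true := by decide +kernel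

theorem rot3_12r : band (Rule.ok (2 * 5) EX RL ⟨3 :: [4, 3, 4, 3, 4, 1, 3, 4], [4, 6], 5, true⟩) (lall (memL L) [4, 3, 4, 3, 4, 1, 3, 4]) = true := by decide +kernel

theorem rot3_13 : T.rot 3 [4, 3, 4, 1, 3, 4, 3, 4] (sel (ones 7371) ip3 13) = true := by decide +kernel

theorem rot3_13r : band (Rule.ok (2 * 5) EX RL ⟨3 :: [4, 3, 4, 1, 3, 4, 3, 4], [4, 6, 4, 6], 5, true⟩) (lall (memL L) [4, 3, 4, 1, 3, 4, 3, 4]) = true := by decide +kernel

theorem rot3_14 : T.rot 3 [4, 1, 3, 4, 3, 4, 3, 4] (sel (ones 7371) ip3 14) = true := by decide +kernel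

theorem rot3_14r : band (Rule.ok (2 * 5) EX RL ⟨3 :: [4, 1, 3, 4, 3, 4, 3, 4], [0, 6, 4], 5, true⟩) (lall (memL L) [4, 1, 3, 4, 3, 4, 3, 4]) = true := by decide +kernel

theorem rot3_15 : T.rot 3 [4, 3, 4, 3, 4, 3, 1, 4] (sel (ones 7371) ip3 15) = true := by decide +kernel

theorem rot3_15r : band (Rule.ok (2 * 5) EX RL ⟨3 :: [4, 3, 4, 3, 4, 3, 1, 4], [0, 6], 5, false⟩) (lall (memL L) [4, 3, 4, 3, 4, 3, 1, 4]) = true := by decide +kernel

theorem rot3_16 : T.rot 3 [4, 3, 4, 3, 1, 4, 3, 4] (sel (ones 7371) ip3 16) = true := by decide +kernel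

theorem rot3_16r : band (Rule.ok (2 * 5) EX RL ⟨3 :: [4, 3, 4, 3, 1, 4, 3, 4], [0, 6, 4, 6], 5, false⟩) (lall (memL L) [4, 3, 4, 3, 1, 4, 3, 4]) = true := by decide +kernel

theorem rot3_17 : T.rot 3 [4, 3, 1, 4, 3, 4, 3, 4] (sel (ones 7371) ip3 17) = true := by decide +kernel

theorem rot3_17r : band (Rule.ok (2 * 5) EX RL ⟨3 :: [4, 3, 1, 4, 3, 4, 3, 4], [4, 6, 4], 5, false⟩) (lall (memL L) [4, 3, 1, 4, 3, 4, 3, 4]) = true := by decide +kernel

theorem rot3_18 : T.rot 3 [1, 4, 3, 4, 3, 4, 3, 4] (sel (ones 7371) ip3 18) = true := by decide +kernel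

theorem rot3_18r : band (Rule.ok (2 * 5) EX RL ⟨3 :: [1, 4, 3, 4, 3, 4, 3, 4], [4], 5, false⟩) (lall (memL L) [1, 4, 3, 4, 3, 4, 3, 4]) = true := by decide +kernel

theorem rot3_19 : T.rot 3 [8, 10, 8, 11, 7, 5, 8, 11, 5] (sel (ones 7371) ip3 19) = true := by decide +kernel

theorem rot3_19r : band (Rule.ok (2 * 5) EX RL ⟨3 :: [8, 10, 8, 11, 7, 5, 8, 11, 5], [10, 8, 2, 0, 4, 2, 6, 10, 6, 8], 14, true⟩) (lall (memL L) [8, 10, 8, 11, 7, 5, 8, 11, 5]) = true := by decide +kernel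

theorem rot3_20 : T.rot 3 [5, 10, 9, 5, 6, 10, 9, 11, 9] (sel (ones 7371) ip3 20) = true := by decide +kernel

theorem rot3_20r : band (Rule.ok (2 * 5) EX RL ⟨3 :: [5, 10, 9, 5, 6, 10, 9, 11, 9], [10, 8, 2, 0, 4, 2, 6, 10, 6, 8, 4], 14, false⟩) (lall (memL L) [5, 10, 9, 5, 6, 10, 9, 11, 9]) = true := by decide +kernel

theorem cov3 : T.cover 3 [(sel (ones 7371) ip3 1), (sel (ones 7371) ip3 2), (sel (ones 7371) ip3 3), (sel (ones 7371) ip3 4), (sel (ones 7371) ip3 5), (sel (ones 7371) ip3 6), (sel (ones 7371) ip3 7), (sel (ones 7371) ip3 8), (sel (ones 7371) ip3 9), (sel (ones 7371) ip3 10), (sel (ones 7371) ip3 11), (sel (ones 7371) ip3 12), (sel (ones 7371) ip3 13), (sel (ones 7371) ip3 14), (sel (ones 7371) ip3 15), (sel (ones 7371) ip3 16), (sel (ones 7371) ip3 17), (sel (ones 7371) ip3 18), (sel (ones 7371) ip3 19), (sel (ones 7371) ip3 20), 1] = true := by decide +kernel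

theorem tl3 : T.treeLt 13 3 = true := by decide +kernel

theorem rot4_1 : T.rot 4 [4] (sel (ones 7371) ip4 1) = true := by decide +kernel

theorem rot4_1r : band (Rule.ok (2 * 5) EX RL ⟨4 :: [4], [], 18, false⟩) (lall (memL L) [4]) = true := by decide +kernel

theorem rot4_2 : T.rot 4 [2, 4, 2] (sel (ones 7371) ip4 2) = true := by decide +kernel

theorem rot4_2r : band (Rule.ok (2 * 5) EX RL ⟨4 :: [2, 4, 2], [], 3, true⟩) (lall (memL L) [2, 4, 2]) = true := by decide +kernel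

theorem rot4_3 : T.rot 4 [1, 4, 1] (sel (ones 7371) ip4 3) = true := by decide +kernel

theorem rot4_3r : band (Rule.ok (2 * 5) EX RL ⟨4 :: [1, 4, 1], [], 16, true⟩) (lall (memL L) [1, 4, 1]) = true := by decide +kernel

theorem rot4_4 : T.rot 4 [6, 4, 11] (sel (ones 7371) ip4 4) = true := by decide +kernel

theorem rot4_4r : band (Rule.ok (2 * 5) EX RL ⟨4 :: [6, 4, 11], [], 18, false⟩) (lall (memL L) [6, 4, 11]) = true := by decide +kernel

theorem rot4_5 : T.rot 4 [11, 4, 6] (sel (ones 7371) ip4 5) = true := by decide +kernel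

theorem rot4_5r : band (Rule.ok (2 * 5) EX RL ⟨4 :: [11, 4, 6], [], 18, false⟩) (lall (memL L) [11, 4, 6]) = true := by decide +kernel

theorem rot4_6 : T.rot 4 [7, 4, 10] (sel (ones 7371) ip4 6) = true := by decide +kernel

theorem rot4_6r : band (Rule.ok (2 * 5) EX RL ⟨4 :: [7, 4, 10], [], 18, false⟩) (lall (memL L) [7, 4, 10]) = true := by decide +kernel

theorem rot4_7 : T.rot 4 [10, 4, 7] (sel (ones 7371) ip4 7) = true := by decide +kernel

theorem rot4_7r : band (Rule.ok (2 * 5) EX RL ⟨4 :: [10, 4, 7], [], 18, false⟩) (lall (memL L) [10, 4, 7]) = true := by decide +kernel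

theorem rot4_8 : T.rot 4 [5, 4, 5, 4, 5] (sel (ones 7371) ip4 8) = true := by decide +kernel

theorem rot4_8r : band (Rule.ok (2 * 5) EX RL ⟨4 :: [5, 4, 5, 4, 5], [], 7, false⟩) (lall (memL L) [5, 4, 5, 4, 5]) = true := by decide +kernel

theorem rot4_9 : T.rot 4 [3, 4, 3, 4, 3, 4, 1, 3] (sel (ones 7371) ip4 9) = true := by decide +kernel

theorem rot4_9r : band (Rule.ok (2 * 5) EX RL ⟨4 :: [3, 4, 3, 4, 3, 4, 1, 3], [4], 5, true⟩) (lall (memL L) [3, 4, 3, 4, 3, 4, 1, 3]) = true := by decide +kernel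

theorem rot4_10 : T.rot 4 [3, 4, 3, 4, 1, 3, 4, 3] (sel (ones 7371) ip4 10) = true := by decide +kernel

theorem rot4_10r : band (Rule.ok (2 * 5) EX RL ⟨4 :: [3, 4, 3, 4, 1, 3, 4, 3], [4, 6, 4], 5, true⟩) (lall (memL L) [3, 4, 3, 4, 1, 3, 4, 3]) = true := by decide +kernel

theorem rot4_11 : T.rot 4 [3, 4, 1, 3, 4, 3, 4, 3] (sel (ones 7371) ip4 11) = true := by decide +kernel

theorem rot4_11r : band (Rule.ok (2 * 5) EX RL ⟨4 :: [3, 4, 1, 3, 4, 3, 4, 3], [0, 6, 4, 6], 5, true⟩) (lall (memL L) [3, 4, 1, 3, 4, 3, 4, 3]) = true := by decide +kernel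

theorem rot4_12 : T.rot 4 [1, 3, 4, 3, 4, 3, 4, 3] (sel (ones 7371) ip4 12) = true := by decide +kernel

theorem rot4_12r : band (Rule.ok (2 * 5) EX RL ⟨4 :: [1, 3, 4, 3, 4, 3, 4, 3], [0, 6], 5, true⟩) (lall (memL L) [1, 3, 4, 3, 4, 3, 4, 3]) = true := by decide +kernel

theorem rot4_13 : T.rot 4 [3, 4, 3, 4, 3, 4, 3, 1] (sel (ones 7371) ip4 13) = true := by decide +kernel

theorem rot4_13r : band (Rule.ok (2 * 5) EX RL ⟨4 :: [3, 4, 3, 4, 3, 4, 3, 1], [0], 5, false⟩) (lall (memL L) [3, 4, 3, 4, 3, 4, 3, 1]) = true := by decide +kernel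

theorem rot4_14 : T.rot 4 [3, 4, 3, 4, 3, 1, 4, 3] (sel (ones 7371) ip4 14) = true := by decide +kernel

theorem rot4_14r : band (Rule.ok (2 * 5) EX RL ⟨4 :: [3, 4, 3, 4, 3, 1, 4, 3], [0, 6, 4], 5, false⟩) (lall (memL L) [3, 4, 3, 4, 3, 1, 4, 3]) = true := by decide +kernel

theorem rot4_15 : T.rot 4 [3, 4, 3, 1, 4, 3, 4, 3] (sel (ones 7371) ip4 15) = true := by decide +kernel

theorem rot4_15r : band (Rule.ok (2 * 5) EX RL ⟨4 :: [3, 4, 3, 1, 4, 3, 4, 3], [4, 6, 4, 6], 5, false⟩) (lall (memL L) [3, 4, 3, 1, 4, 3, 4, 3]) = true := by decide +kernel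

theorem rot4_16 : T.rot 4 [3, 1, 4, 3, 4, 3, 4, 3] (sel (ones 7371) ip4 16) = true := by decide +kernel

theorem rot4_16r : band (Rule.ok (2 * 5) EX RL ⟨4 :: [3, 1, 4, 3, 4, 3, 4, 3], [4, 6], 5, false⟩) (lall (memL L) [3, 1, 4, 3, 4, 3, 4, 3]) = true := by decide +kernel

theorem rot4_17 : T.rot 4 [7, 5, 4, 6, 4, 7, 5, 4, 6] (sel (ones 7371) ip4 17) = true := by decide +kernel

theorem rot4_17r : band (Rule.ok (2 * 5) EX RL ⟨4 :: [7, 5, 4, 6, 4, 7, 5, 4, 6], [11], 12, true⟩) (lall (memL L) [7, 5, 4, 6, 4, 7, 5, 4, 6]) = true := by decide +kernel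

theorem rot4_18 : T.rot 4 [6, 4, 7, 5, 4, 6, 4, 7, 5] (sel (ones 7371) ip4 18) = true := by decide +kernel

theorem rot4_18r : band (Rule.ok (2 * 5) EX RL ⟨4 :: [6, 4, 7, 5, 4, 6, 4, 7, 5], [6], 12, true⟩) (lall (memL L) [6, 4, 7, 5, 4, 6, 4, 7, 5]) = true := by decide +kernel

theorem rot4_19 : T.rot 4 [5, 6, 4, 7, 4, 5, 6, 4, 7] (sel (ones 7371) ip4 19) = true := by decide +kernel

theorem rot4_19r : band (Rule.ok (2 * 5) EX RL ⟨4 :: [5, 6, 4, 7, 4, 5, 6, 4, 7], [], 12, false⟩) (lall (memL L) [5, 6, 4, 7, 4, 5, 6, 4, 7]) = true := by decide +kernel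

theorem rot4_20 : T.rot 4 [7, 4, 5, 6, 4, 7, 4, 5, 6] (sel (ones 7371) ip4 20) = true := by decide +kernel

theorem rot4_20r : band (Rule.ok (2 * 5) EX RL ⟨4 :: [7, 4, 5, 6, 4, 7, 4, 5, 6], [11, 6], 12, false⟩) (lall (memL L) [7, 4, 5, 6, 4, 7, 4, 5, 6]) = true := by decide +kernel

theorem cov4 : T.cover 4 [(sel (ones 7371) ip4 1), (sel (ones 7371) ip4 2), (sel (ones 7371) ip4 3), (sel (ones 7371) ip4 4), (sel (ones 7371) ip4 5), (sel (ones 7371) ip4 6), (sel (ones 7371) ip4 7), (sel (ones 7371) ip4 8), (sel (ones 7371) ip4 9), (sel (ones 7371) ip4 10), (sel (ones 7371) ip4 11), (sel (ones 7371) ip4 12), (sel (ones 7371) ip4 13), (sel (ones 7371) ip4 14), (sel (ones 7371) ip4 15), (sel (ones 7371) ip4 16), (sel (ones 7371) ip4 17), (sel (ones 7371) ip4 18), (sel (ones 7371) ip4 19), (sel (ones 7371) ip4 20), 1] = true := by decide +kernel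

theorem tl4 : T.treeLt 13 4 = true := by decide +kernel

theorem rot5_1 : T.rot 5 [5] (sel (ones 7371) ip5 1) = true := by decide +kernel

theorem rot5_1r : band (Rule.ok (2 * 5) EX RL ⟨5 :: [5], [], 18, false⟩) (lall (memL L) [5]) = true := by decide +kernel

theorem rot5_2 : T.rot 5 [1, 5, 1] (sel (ones 7371) ip5 2) = true := by decide +kernel

theorem rot5_2r : band (Rule.ok (2 * 5) EX RL ⟨5 :: [1, 5, 1], [], 1, true⟩) (lall (memL L) [1, 5, 1]) = true := by decide +kernel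

theorem rot5_3 : T.rot 5 [2, 5, 2] (sel (ones 7371) ip5 3) = true := by decide +kernel

theorem rot5_3r : band (Rule.ok (2 * 5) EX RL ⟨5 :: [2, 5, 2], [], 4, true⟩) (lall (memL L) [2, 5, 2]) = true := by decide +kernel

theorem rot5_4 : T.rot 5 [3, 5, 3] (sel (ones 7371) ip5 4) = true := by decide +kernel

theorem rot5_4r : band (Rule.ok (2 * 5) EX RL ⟨5 :: [3, 5, 3], [], 6, true⟩) (lall (memL L) [3, 5, 3]) = true := by decide +kernel

theorem rot5_5 : T.rot 5 [6, 5, 7] (sel (ones 7371) ip5 5) = true := by decide +kernel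

theorem rot5_5r : band (Rule.ok (2 * 5) EX RL ⟨5 :: [6, 5, 7], [], 11, true⟩) (lall (memL L) [6, 5, 7]) = true := by decide +kernel

theorem rot5_6 : T.rot 5 [7, 5, 6] (sel (ones 7371) ip5 6) = true := by decide +kernel

theorem rot5_6r : band (Rule.ok (2 * 5) EX RL ⟨5 :: [7, 5, 6], [11], 11, false⟩) (lall (memL L) [7, 5, 6]) = true := by decide +kernel

theorem rot5_7 : T.rot 5 [8, 6, 8, 7] (sel (ones 7371) ip5 7) = true := by decide +kernel

theorem rot5_7r : band (Rule.ok (2 * 5) EX RL ⟨5 :: [8, 6, 8, 7], [], 13, true⟩) (lall (memL L) [8, 6, 8, 7]) = true := by decide +kernel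

theorem rot5_8 : T.rot 5 [6, 9, 7, 9] (sel (ones 7371) ip5 8) = true := by decide +kernel

theorem rot5_8r : band (Rule.ok (2 * 5) EX RL ⟨5 :: [6, 9, 7, 9], [8], 13, false⟩) (lall (memL L) [6, 9, 7, 9]) = true := by decide +kernel

theorem rot5_9 : T.rot 5 [4, 5, 4, 5, 4] (sel (ones 7371) ip5 9) = true := by decide +kernel

theorem rot5_9r : band (Rule.ok (2 * 5) EX RL ⟨5 :: [4, 5, 4, 5, 4], [], 7, true⟩) (lall (memL L) [4, 5, 4, 5, 4]) = true := by decide +kernel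

theorem rot5_10 : T.rot 5 [4, 6, 4, 7, 5, 4, 6, 4, 7] (sel (ones 7371) ip5 10) = true := by decide +kernel

theorem rot5_10r : band (Rule.ok (2 * 5) EX RL ⟨5 :: [4, 6, 4, 7, 5, 4, 6, 4, 7], [6, 8], 12, true⟩) (lall (memL L) [4, 6, 4, 7, 5, 4, 6, 4, 7]) = true := by decide +kernel

theorem rot5_11 : T.rot 5 [6, 4, 7, 4, 5, 6, 4, 7, 4] (sel (ones 7371) ip5 11) = true := by decide +kernel

theorem rot5_11r : band (Rule.ok (2 * 5) EX RL ⟨5 :: [6, 4, 7, 4, 5, 6, 4, 7, 4], [6], 12, false⟩) (lall (memL L) [6, 4, 7, 4, 5, 6, 4, 7, 4]) = true := by decide +kernel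

theorem rot5_12 : T.rot 5 [8, 11, 5, 3, 8, 10, 8, 11, 7] (sel (ones 7371) ip5 12) = true := by decide +kernel

theorem rot5_12r : band (Rule.ok (2 * 5) EX RL ⟨5 :: [8, 11, 5, 3, 8, 10, 8, 11, 7], [10], 14, true⟩) (lall (memL L) [8, 11, 5, 3, 8, 10, 8, 11, 7]) = true := by decide +kernel

theorem rot5_13 : T.rot 5 [3, 8, 10, 8, 11, 7, 5, 8, 11] (sel (ones 7371) ip5 13) = true := by decide +kernel

theorem rot5_13r : band (Rule.ok (2 * 5) EX RL ⟨5 :: [3, 8, 10, 8, 11, 7, 5, 8, 11], [10, 8, 2, 0, 4, 2, 6, 10, 6], 14, true⟩) (lall (memL L) [3, 8, 10, 8, 11, 7, 5, 8, 11]) = true := by decide +kernel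

theorem rot5_14 : T.rot 5 [10, 9, 5, 6, 10, 9, 11, 9, 3] (sel (ones 7371) ip5 14) = true := by decide +kernel

theorem rot5_14r : band (Rule.ok (2 * 5) EX RL ⟨5 :: [10, 9, 5, 6, 10, 9, 11, 9, 3], [10, 8, 2, 0, 4, 2, 6, 10, 6, 8], 14, false⟩) (lall (memL L) [10, 9, 5, 6, 10, 9, 11, 9, 3]) = true := by decide +kernel

theorem rot5_15 : T.rot 5 [6, 10, 9, 11, 9, 3, 5, 10, 9] (sel (ones 7371) ip5 15) = true := by decide +kernel

theorem rot5_15r : band (Rule.ok (2 * 5) EX RL ⟨5 :: [6, 10, 9, 11, 9, 3, 5, 10, 9], [10, 8], 14, false⟩) (lall (memL L) [6, 10, 9, 11, 9, 3, 5, 10, 9]) = true := by decide +kernel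

theorem cov5 : T.cover 5 [(sel (ones 7371) ip5 1), (sel (ones 7371) ip5 2), (sel (ones 7371) ip5 3), (sel (ones 7371) ip5 4), (sel (ones 7371) ip5 5), (sel (ones 7371) ip5 6), (sel (ones 7371) ip5 7), (sel (ones 7371) ip5 8), (sel (ones 7371) ip5 9), (sel (ones 7371) ip5 10), (sel (ones 7371) ip5 11), (sel (ones 7371) ip5 12), (sel (ones 7371) ip5 13), (sel (ones 7371) ip5 14), (sel (ones 7371) ip5 15), 1] = true := by decide +kernel

theorem tl5 : T.treeLt 13 5 = true := by decide +kernel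

theorem rot6_1 : T.rot 6 [7] (sel (ones 7371) ip6 1) = true := by decide +kernel

theorem rot6_1r : band (Rule.ok (2 * 5) EX RL ⟨6 :: [7], [], 18, false⟩) (lall (memL L) [7]) = true := by decide +kernel

theorem rot6_2 : T.rot 6 [6, 1, 3] (sel (ones 7371) ip6 2) = true := by decide +kernel

theorem rot6_2r : band (Rule.ok (2 * 5) EX RL ⟨6 :: [6, 1, 3], [10, 10], 8, true⟩) (lall (memL L) [6, 1, 3]) = true := by decide +kernel

theorem rot6_3 : T.rot 6 [1, 3, 6] (sel (ones 7371) ip6 3) = true := by decide +kernel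

theorem rot6_3r : band (Rule.ok (2 * 5) EX RL ⟨6 :: [1, 3, 6], [10], 8, true⟩) (lall (memL L) [1, 3, 6]) = true := by decide +kernel

theorem rot6_4 : T.rot 6 [1, 7, 1] (sel (ones 7371) ip6 4) = true := by decide +kernel

theorem rot6_4r : band (Rule.ok (2 * 5) EX RL ⟨6 :: [1, 7, 1], [], 9, false⟩) (lall (memL L) [1, 7, 1]) = true := by decide +kernel

theorem rot6_5 : T.rot 6 [3, 7, 3] (sel (ones 7371) ip6 5) = true := by decide +kernel

theorem rot6_5r : band (Rule.ok (2 * 5) EX RL ⟨6 :: [3, 7, 3], [], 10, false⟩) (lall (memL L) [3, 7, 3]) = true := by decide +kernel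

theorem rot6_6 : T.rot 6 [5, 7, 5] (sel (ones 7371) ip6 6) = true := by decide +kernel

theorem rot6_6r : band (Rule.ok (2 * 5) EX RL ⟨6 :: [5, 7, 5], [], 11, false⟩) (lall (memL L) [5, 7, 5]) = true := by decide +kernel

theorem rot6_7 : T.rot 6 [4, 11, 4] (sel (ones 7371) ip6 7) = true := by decide +kernel

theorem rot6_7r : band (Rule.ok (2 * 5) EX RL ⟨6 :: [4, 11, 4], [], 18, false⟩) (lall (memL L) [4, 11, 4]) = true := by decide +kernel

theorem rot6_8 : T.rot 6 [8, 7, 5, 8] (sel (ones 7371) ip6 8) = true := by decide +kernel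

theorem rot6_8r : band (Rule.ok (2 * 5) EX RL ⟨6 :: [8, 7, 5, 8], [8, 2, 0, 4, 2], 13, true⟩) (lall (memL L) [8, 7, 5, 8]) = true := by decide +kernel

theorem rot6_9 : T.rot 6 [9, 7, 9, 5] (sel (ones 7371) ip6 9) = true := by decide +kernel

theorem rot6_9r : band (Rule.ok (2 * 5) EX RL ⟨6 :: [9, 7, 9, 5], [], 13, false⟩) (lall (memL L) [9, 7, 9, 5]) = true := by decide +kernel

theorem rot6_10 : T.rot 6 [4, 7, 5, 4, 6, 4, 7, 5, 4] (sel (ones 7371) ip6 10) = true := by decide +kernel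

theorem rot6_10r : band (Rule.ok (2 * 5) EX RL ⟨6 :: [4, 7, 5, 4, 6, 4, 7, 5, 4], [], 12, true⟩) (lall (memL L) [4, 7, 5, 4, 6, 4, 7, 5, 4]) = true := by decide +kernel

theorem rot6_11 : T.rot 6 [4, 7, 4, 5, 6, 4, 7, 4, 5] (sel (ones 7371) ip6 11) = true := by decide +kernel

theorem rot6_11r : band (Rule.ok (2 * 5) EX RL ⟨6 :: [4, 7, 4, 5, 6, 4, 7, 4, 5], [6, 8], 12, false⟩) (lall (memL L) [4, 7, 4, 5, 6, 4, 7, 4, 5]) = true := by decide +kernel

theorem rot6_12 : T.rot 6 [10, 9, 11, 9, 3, 5, 10, 9, 5] (sel (ones 7371) ip6 12) = true := by decide +kernel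

theorem rot6_12r : band (Rule.ok (2 * 5) EX RL ⟨6 :: [10, 9, 11, 9, 3, 5, 10, 9, 5], [10], 14, false⟩) (lall (memL L) [10, 9, 11, 9, 3, 5, 10, 9, 5]) = true := by decide +kernel

theorem cov6 : T.cover 6 [(sel (ones 7371) ip6 1), (sel (ones 7371) ip6 2), (sel (ones 7371) ip6 3), (sel (ones 7371) ip6 4), (sel (ones 7371) ip6 5), (sel (ones 7371) ip6 6), (sel (ones 7371) ip6 7), (sel (ones 7371) ip6 8), (sel (ones 7371) ip6 9), (sel (ones 7371) ip6 10), (sel (ones 7371) ip6 11), (sel (ones 7371) ip6 12), 1] = true := by decide +kernel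

theorem tl6 : T.treeLt 13 6 = true := by decide +kernel

theorem rot7_1 : T.rot 7 [6] (sel (ones 7371) ip7 1) = true := by decide +kernel

theorem rot7_1r : band (Rule.ok (2 * 5) EX RL ⟨7 :: [6], [], 18, false⟩) (lall (memL L) [6]) = true := by decide +kernel

theorem rot7_2 : T.rot 7 [7, 3, 1] (sel (ones 7371) ip7 2) = true := by decide +kernel

theorem rot7_2r : band (Rule.ok (2 * 5) EX RL ⟨7 :: [7, 3, 1], [], 8, false⟩) (lall (memL L) [7, 3, 1]) = true := by decide +kernel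

theorem rot7_3 : T.rot 7 [3, 1, 7] (sel (ones 7371) ip7 3) = true := by decide +kernel

theorem rot7_3r : band (Rule.ok (2 * 5) EX RL ⟨7 :: [3, 1, 7], [10], 8, false⟩) (lall (memL L) [3, 1, 7]) = true := by decide +kernel

theorem rot7_4 : T.rot 7 [1, 6, 1] (sel (ones 7371) ip7 4) = true := by decide +kernel

theorem rot7_4r : band (Rule.ok (2 * 5) EX RL ⟨7 :: [1, 6, 1], [11], 9, true⟩) (lall (memL L) [1, 6, 1]) = true := by decide +kernel

theorem rot7_5 : T.rot 7 [3, 6, 3] (sel (ones 7371) ip7 5) = true := by decide +kernel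

theorem rot7_5r : band (Rule.ok (2 * 5) EX RL ⟨7 :: [3, 6, 3], [11], 10, true⟩) (lall (memL L) [3, 6, 3]) = true := by decide +kernel

theorem rot7_6 : T.rot 7 [5, 6, 5] (sel (ones 7371) ip7 6) = true := by decide +kernel

theorem rot7_6r : band (Rule.ok (2 * 5) EX RL ⟨7 :: [5, 6, 5], [11], 11, true⟩) (lall (memL L) [5, 6, 5]) = true := by decide +kernel

theorem rot7_7 : T.rot 7 [4, 10, 4] (sel (ones 7371) ip7 7) = true := by decide +kernel

theorem rot7_7r : band (Rule.ok (2 * 5) EX RL ⟨7 :: [4, 10, 4], [], 18, false⟩) (lall (memL L) [4, 10, 4]) = true := by decide +kernel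

theorem rot7_8 : T.rot 7 [5, 8, 6, 8] (sel (ones 7371) ip7 8) = true := by decide +kernel

theorem rot7_8r : band (Rule.ok (2 * 5) EX RL ⟨7 :: [5, 8, 6, 8], [11], 13, true⟩) (lall (memL L) [5, 8, 6, 8]) = true := by decide +kernel

theorem rot7_9 : T.rot 7 [9, 5, 6, 9] (sel (ones 7371) ip7 9) = true := by decide +kernel

theorem rot7_9r : band (Rule.ok (2 * 5) EX RL ⟨7 :: [9, 5, 6, 9], [11, 2, 4, 0, 2], 13, false⟩) (lall (memL L) [9, 5, 6, 9]) = true := by decide +kernel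

theorem rot7_10 : T.rot 7 [5, 4, 6, 4, 7, 5, 4, 6, 4] (sel (ones 7371) ip7 10) = true := by decide +kernel

theorem rot7_10r : band (Rule.ok (2 * 5) EX RL ⟨7 :: [5, 4, 6, 4, 7, 5, 4, 6, 4], [11, 6], 12, true⟩) (lall (memL L) [5, 4, 6, 4, 7, 5, 4, 6, 4]) = true := by decide +kernel

theorem rot7_11 : T.rot 7 [4, 5, 6, 4, 7, 4, 5, 6, 4] (sel (ones 7371) ip7 11) = true := by decide +kernel

theorem rot7_11r : band (Rule.ok (2 * 5) EX RL ⟨7 :: [4, 5, 6, 4, 7, 4, 5, 6, 4], [11], 12, false⟩) (lall (memL L) [4, 5, 6, 4, 7, 4, 5, 6, 4]) = true := by decide +kernel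

theorem rot7_12 : T.rot 7 [5, 8, 11, 5, 3, 8, 10, 8, 11] (sel (ones 7371) ip7 12) = true := by decide +kernel

theorem rot7_12r : band (Rule.ok (2 * 5) EX RL ⟨7 :: [5, 8, 11, 5, 3, 8, 10, 8, 11], [], 14, true⟩) (lall (memL L) [5, 8, 11, 5, 3, 8, 10, 8, 11]) = true := by decide +kernel

theorem cov7 : T.cover 7 [(sel (ones 7371) ip7 1), (sel (ones 7371) ip7 2), (sel (ones 7371) ip7 3), (sel (ones 7371) ip7 4), (sel (ones 7371) ip7 5), (sel (ones 7371) ip7 6), (sel (ones 7371) ip7 7), (sel (ones 7371) ip7 8), (sel (ones 7371) ip7 9), (sel (ones 7371) ip7 10), (sel (ones 7371) ip7 11), (sel (ones 7371) ip7 12)] = true := by decide +kernel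

theorem tl7 : T.treeLt 13 7 = true := by decide +kernel

theorem rot8_1 : T.rot 8 [8] (sel (ones 7371) ip8 1) = true := by decide +kernel

theorem rot8_1r : band (Rule.ok (2 * 5) EX RL ⟨8 :: [8], [2], 15, false⟩) (lall (memL L) [8]) = true := by decide +kernel

theorem rot8_2 : T.rot 8 [6, 8, 7, 5] (sel (ones 7371) ip8 2) = true := by decide +kernel

theorem rot8_2r : band (Rule.ok (2 * 5) EX RL ⟨8 :: [6, 8, 7, 5], [8], 13, true⟩) (lall (memL L) [6, 8, 7, 5]) = true := by decide +kernel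

theorem rot8_3 : T.rot 8 [7, 5, 8, 6] (sel (ones 7371) ip8 3) = true := by decide +kernel

theorem rot8_3r : band (Rule.ok (2 * 5) EX RL ⟨8 :: [7, 5, 8, 6], [11, 2, 4, 0, 2], 13, true⟩) (lall (memL L) [7, 5, 8, 6]) = true := by decide +kernel

theorem rot8_4 : T.rot 8 [2, 3, 1, 2] (sel (ones 7371) ip8 4) = true := by decide +kernel

theorem rot8_4r : band (Rule.ok (2 * 5) EX RL ⟨8 :: [2, 3, 1, 2], [], 18, false⟩) (lall (memL L) [2, 3, 1, 2]) = true := by decide +kernel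

theorem rot8_5 : T.rot 8 [11, 5, 3, 8, 10, 8, 11, 7, 5] (sel (ones 7371) ip8 5) = true := by decide +kernel

theorem rot8_5r : band (Rule.ok (2 * 5) EX RL ⟨8 :: [11, 5, 3, 8, 10, 8, 11, 7, 5], [10, 8], 14, true⟩) (lall (memL L) [11, 5, 3, 8, 10, 8, 11, 7, 5]) = true := by decide +kernel

theorem rot8_6 : T.rot 8 [10, 8, 11, 7, 5, 8, 11, 5, 3] (sel (ones 7371) ip8 6) = true := by decide +kernel

theorem rot8_6r : band (Rule.ok (2 * 5) EX RL ⟨8 :: [10, 8, 11, 7, 5, 8, 11, 5, 3], [10, 8, 2, 0, 4, 2, 6, 10, 6, 8, 4], 14, true⟩) (lall (memL L) [10, 8, 11, 7, 5, 8, 11, 5, 3]) = true := by decide +kernel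

theorem rot8_7 : T.rot 8 [11, 7, 5, 8, 11, 5, 3, 8, 10] (sel (ones 7371) ip8 7) = true := by decide +kernel

theorem rot8_7r : band (Rule.ok (2 * 5) EX RL ⟨8 :: [11, 7, 5, 8, 11, 5, 3, 8, 10], [6, 11, 6, 2, 4, 0, 2], 14, true⟩) (lall (memL L) [11, 7, 5, 8, 11, 5, 3, 8, 10]) = true := by decide +kernel

theorem cov8 : T.cover 8 [(sel (ones 7371) ip8 1), (sel (ones 7371) ip8 2), (sel (ones 7371) ip8 3), (sel (ones 7371) ip8 4), (sel (ones 7371) ip8 5), (sel (ones 7371) ip8 6), (sel (ones 7371) ip8 7)] = true := by decide +kernel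

theorem tl8 : Nat.beq (T.let 8).tt 0 = true := by decide +kernel

theorem rot9_1 : T.rot 9 [9] (sel (ones 7371) ip9 1) = true := by decide +kernel

theorem rot9_1r : band (Rule.ok (2 * 5) EX RL ⟨9 :: [9], [2], 15, true⟩) (lall (memL L) [9]) = true := by decide +kernel

theorem rot9_2 : T.rot 9 [7, 9, 5, 6] (sel (ones 7371) ip9 2) = true := by decide +kernel

theorem rot9_2r : band (Rule.ok (2 * 5) EX RL ⟨9 :: [7, 9, 5, 6], [11], 13, false⟩) (lall (memL L) [7, 9, 5, 6]) = true := by decide +kernel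

theorem rot9_3 : T.rot 9 [5, 6, 9, 7] (sel (ones 7371) ip9 3) = true := by decide +kernel

theorem rot9_3r : band (Rule.ok (2 * 5) EX RL ⟨9 :: [5, 6, 9, 7], [8, 2, 0, 4, 2], 13, false⟩) (lall (memL L) [5, 6, 9, 7]) = true := by decide +kernel

theorem rot9_4 : T.rot 9 [2, 1, 3, 2] (sel (ones 7371) ip9 4) = true := by decide +kernel

theorem rot9_4r : band (Rule.ok (2 * 5) EX RL ⟨9 :: [2, 1, 3, 2], [], 18, false⟩) (lall (memL L) [2, 1, 3, 2]) = true := by decide +kernel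

theorem rot9_5 : T.rot 9 [11, 9, 3, 5, 10, 9, 5, 6, 10] (sel (ones 7371) ip9 5) = true := by decide +kernel

theorem rot9_5r : band (Rule.ok (2 * 5) EX RL ⟨9 :: [11, 9, 3, 5, 10, 9, 5, 6, 10], [6, 11, 6], 14, false⟩) (lall (memL L) [11, 9, 3, 5, 10, 9, 5, 6, 10]) = true := by decide +kernel

theorem rot9_6 : T.rot 9 [3, 5, 10, 9, 5, 6, 10, 9, 11] (sel (ones 7371) ip9 6) = true := by decide +kernel

theorem rot9_6r : band (Rule.ok (2 * 5) EX RL ⟨9 :: [3, 5, 10, 9, 5, 6, 10, 9, 11], [6, 11, 6, 2, 4, 0, 2, 6, 10, 6], 14, false⟩) (lall (memL L) [3, 5, 10, 9, 5, 6, 10, 9, 11]) = true := by decide +kernel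

theorem rot9_7 : T.rot 9 [5, 6, 10, 9, 11, 9, 3, 5, 10] (sel (ones 7371) ip9 7) = true := by decide +kernel

theorem rot9_7r : band (Rule.ok (2 * 5) EX RL ⟨9 :: [5, 6, 10, 9, 11, 9, 3, 5, 10], [10, 8, 2, 0, 4, 2], 14, false⟩) (lall (memL L) [5, 6, 10, 9, 11, 9, 3, 5, 10]) = true := by decide +kernel

theorem cov9 : T.cover 9 [(sel (ones 7371) ip9 1), (sel (ones 7371) ip9 2), (sel (ones 7371) ip9 3), (sel (ones 7371) ip9 4), (sel (ones 7371) ip9 5), (sel (ones 7371) ip9 6), (sel (ones 7371) ip9 7)] = true := by decide +kernel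

theorem tl9 : Nat.beq (T.let 9).tt 0 = true := by decide +kernel

theorem rot10_1 : T.rot 10 [4, 7, 4] (sel (ones 7371) ip10 1) = true := by decide +kernel

theorem rot10_1r : band (Rule.ok (2 * 5) EX RL ⟨10 :: [4, 7, 4], [], 18, false⟩) (lall (memL L) [4, 7, 4]) = true := by decide +kernel

theorem rot10_2 : T.rot 10 [8, 11, 7, 5, 8, 11, 5, 3, 8] (sel (ones 7371) ip10 2) = true := by decide +kernel

theorem rot10_2r : band (Rule.ok (2 * 5) EX RL ⟨10 :: [8, 11, 7, 5, 8, 11, 5, 3, 8], [6, 11, 6, 2, 4, 0, 2, 6, 10, 6], 14, true⟩) (lall (memL L) [8, 11, 7, 5, 8, 11, 5, 3, 8]) = true := by decide +kernel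

theorem rot10_3 : T.rot 10 [9, 11, 9, 3, 5, 10, 9, 5, 6] (sel (ones 7371) ip10 3) = true := by decide +kernel

theorem rot10_3r : band (Rule.ok (2 * 5) EX RL ⟨10 :: [9, 11, 9, 3, 5, 10, 9, 5, 6], [], 14, false⟩) (lall (memL L) [9, 11, 9, 3, 5, 10, 9, 5, 6]) = true := by decide +kernel

theorem rot10_4 : T.rot 10 [9, 5, 6, 10, 9, 11, 9, 3, 5] (sel (ones 7371) ip10 4) = true := by decide +kernel

theorem rot10_4r : band (Rule.ok (2 * 5) EX RL ⟨10 :: [9, 5, 6, 10, 9, 11, 9, 3, 5], [10, 8, 2, 0, 4, 2, 6, 10, 6], 14, false⟩) (lall (memL L) [9, 5, 6, 10, 9, 11, 9, 3, 5]) = true := by decide +kernel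

theorem cov10 : T.cover 10 [(sel (ones 7371) ip10 1), (sel (ones 7371) ip10 2), (sel (ones 7371) ip10 3), (sel (ones 7371) ip10 4)] = true := by decide +kernel

theorem tl10 : Nat.beq (T.let 10).tt 0 = true := by decide +kernel

theorem rot11_1 : T.rot 11 [4, 6, 4] (sel (ones 7371) ip11 1) = true := by decide +kernel

theorem rot11_1r : band (Rule.ok (2 * 5) EX RL ⟨11 :: [4, 6, 4], [], 18, false⟩) (lall (memL L) [4, 6, 4]) = true := by decide +kernel

theorem rot11_2 : T.rot 11 [5, 3, 8, 10, 8, 11, 7, 5, 8] (sel (ones 7371) ip11 2) = true := by decide +kernel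

theorem rot11_2r : band (Rule.ok (2 * 5) EX RL ⟨11 :: [5, 3, 8, 10, 8, 11, 7, 5, 8], [10, 8, 2, 0, 4, 2], 14, true⟩) (lall (memL L) [5, 3, 8, 10, 8, 11, 7, 5, 8]) = true := by decide +kernel

theorem rot11_3 : T.rot 11 [7, 5, 8, 11, 5, 3, 8, 10, 8] (sel (ones 7371) ip11 3) = true := by decide +kernel

theorem rot11_3r : band (Rule.ok (2 * 5) EX RL ⟨11 :: [7, 5, 8, 11, 5, 3, 8, 10, 8], [6, 11, 6], 14, true⟩) (lall (memL L) [7, 5, 8, 11, 5, 3, 8, 10, 8]) = true := by decide +kernel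

theorem rot11_4 : T.rot 11 [9, 3, 5, 10, 9, 5, 6, 10, 9] (sel (ones 7371) ip11 4) = true := by decide +kernel

theorem rot11_4r : band (Rule.ok (2 * 5) EX RL ⟨11 :: [9, 3, 5, 10, 9, 5, 6, 10, 9], [6, 11, 6, 2, 4, 0, 2], 14, false⟩) (lall (memL L) [9, 3, 5, 10, 9, 5, 6, 10, 9]) = true := by decide +kernel

theorem cov11 : T.cover 11 [(sel (ones 7371) ip11 1), (sel (ones 7371) ip11 2), (sel (ones 7371) ip11 3), (sel (ones 7371) ip11 4)] = true := by decide +kernel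

theorem tl11 : Nat.beq (T.let 11).tt 0 = true := by decide +kernel

end Cfsg.Agent.Spor.ThG
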